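import Cfsg.Agent.H34.TI.J4Cols
import Cfsg.Agent.Characters.Brauer
import Cfsg.Agent.Characters.Linear
import Cfsg.Agent.S0145
import Cfsg.Agent.S0157

/-!
# The irreducible characters of `S₅` (helper671, for helper34's columns of `J₄`)

`irr5 a : IrrCharacter (Perm (Fin 5))` with values `th5 a`, `irr5_bij`.
-/

set_option autoImplicit false

open scoped ComplexConjugate

namespace Cfsg.Agent.H671.J4

open Cfsg Cfsg.Agent.Characters.Core Cfsg.Agent.H34.TI Equiv

abbrev P5 : Type := Perm (Fin 5)

/-- the number of fixed points on unordered pairs -/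
def c2 (s : P5) : ℤ := ((Finset.univ.filter fun z : Sym2 (Fin 5) => z.map s = z).card : ℤ)

theorem th5_poly : ∀ s : P5, th5 0 s = 1 ∧ th5 1 s = sg s ∧ th5 2 s = fx s - 1 ∧ th5 3 s = sg s * (fx s - 1) ∧
    th5 4 s = c2 s - 2 * fx s ∧ th5 5 s = sg s * (c2 s - 2 * fx s) ∧ th5 6 s = fx s * fx s - fx s + 1 - c2 s := by
  decide +kernel

theorem th5_one : ∀ a : Fin 7, th5 a 1 = t7 a := by decide +kernel

theorem t7_pos : ∀ a : Fin 7, 0 < t7 a := by decide

theorem t7_sq : ∑ a, t7 a ^ 2 = 120 := by decide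

theorem th5_orth : ∀ a b : Fin 7, ∑ s : P5, th5 a s * th5 b s = if a = b then 120 else 0 := by
  decide +kernel

theorem card_P5 : Nat.card P5 = 120 := by
  rw [Nat.card_eq_fintype_card]
  decide +kernel

theorem char_fx : IsCharacter P5 (fun s => (fx s : ℂ)) := by
  have h := S0157.isCharacter_fixedBy (G := P5) (Fin 5)
  convert h using 2 with s
  rw [fx, Int.cast_natCast, Nat.card_eq_fintype_card, ← Set.toFinset_card]
  congr 2
  ext i
  simp [MulAction.mem_fixedBy]

/-- the action on unordered pairs -/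
@[instance_reducible]
def act2 : MulAction P5 (Sym2 (Fin 5)) where
  smul g z := z.map g
  one_smul z := by
    show z.map ((1 : P5) : Fin 5 → Fin 5) = z
    rw [Perm.coe_one, Sym2.map_id]
    rfl
  mul_smul g h z := by
    show z.map ((g * h : P5) : Fin 5 → Fin 5) = (z.map h).map g
    rw [Perm.coe_mul, Sym2.map_map]

theorem char_c2 : IsCharacter P5 (fun s => (c2 s : ℂ)) := by
  let _ := act2
  have h := S0157.isCharacter_fixedBy (G := P5) (Sym2 (Fin 5))
  convert h using 2 with s
  rw [c2, Int.cast_natCast, Nat.card_eq_fintype_card, ← Set.toFinset_card]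
  congr 2
  ext i
  rw [Finset.mem_filter, Set.mem_toFinset, MulAction.mem_fixedBy]
  simp only [Finset.mem_univ, true_and]
  rfl

/-- the sign as a homomorphism to `ℂˣ` -/
noncomputable def sgn : P5 →* ℂˣ := (Units.map (Int.castRingHom ℂ).toMonoidHom).comp Perm.sign

theorem char_sg : IsCharacter P5 (fun s => (sg s : ℂ)) := by
  have h := isIrr_isCharacter (Characters.Linear.isIrrCharacter_hom sgn)
  convert h using 2 with s
  simp [sg, sgn]

theorem gen_th5 (a : Fin 7) : IsGeneralizedCharacter P5 (fun s => (th5 a s : ℂ)) := by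
  have hF := Characters.Brauer.isGeneralizedCharacter_of_isCharacter char_fx
  have hC := Characters.Brauer.isGeneralizedCharacter_of_isCharacter char_c2
  have hE := Characters.Brauer.isGeneralizedCharacter_of_isCharacter char_sg
  have h1 := Characters.Brauer.isGeneralizedCharacter_of_isCharacter (isCharacter_one (G := P5))
  have h21 := Characters.Brauer.isGeneralizedCharacter_sub hF h1
  have h24 := Characters.Brauer.isGeneralizedCharacter_sub (Characters.Brauer.isGeneralizedCharacter_sub hC hF) hF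
  fin_cases a
  · convert h1 using 2 with s
    show ((th5 0 s : ℤ) : ℂ) = 1
    exact_mod_cast (th5_poly s).1
  · convert hE using 2 with s
    exact congrArg _ (th5_poly s).2.1
  · convert h21 using 2 with s
    show ((th5 2 s : ℤ) : ℂ) = (fx s : ℂ) - 1
    exact_mod_cast (th5_poly s).2.2.1
  · convert Characters.Brauer.isGeneralizedCharacter_mul hE h21 using 2 with s
    show ((th5 3 s : ℤ) : ℂ) = (sg s : ℂ) * ((fx s : ℂ) - 1)
    exact_mod_cast (th5_poly s).2.2.2.1
  · convert h24 using 2 with s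
    have h := (th5_poly s).2.2.2.2.1
    show ((th5 4 s : ℤ) : ℂ) = (c2 s : ℂ) - (fx s : ℂ) - (fx s : ℂ)
    exact_mod_cast (by linarith : th5 4 s = c2 s - fx s - fx s)
  · convert Characters.Brauer.isGeneralizedCharacter_mul hE h24 using 2 with s
    have h := (th5_poly s).2.2.2.2.2.1
    show ((th5 5 s : ℤ) : ℂ) = (sg s : ℂ) * ((c2 s : ℂ) - (fx s : ℂ) - (fx s : ℂ))
    exact_mod_cast (by rw [h]; ring : th5 5 s = sg s * (c2 s - fx s - fx s))
  · convert Characters.Brauer.isGeneralizedCharacter_sub (Characters.Brauer.isGeneralizedCharacter_add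
      (Characters.Brauer.isGeneralizedCharacter_sub (Characters.Brauer.isGeneralizedCharacter_mul hF hF) hF) h1) hC
      using 2 with s
    have h := (th5_poly s).2.2.2.2.2.2
    show ((th5 6 s : ℤ) : ℂ) = (fx s : ℂ) * (fx s : ℂ) - (fx s : ℂ) + 1 - (c2 s : ℂ)
    exact_mod_cast h

theorem inner_th5 (a b : Fin 7) : classInner (fun s : P5 => (th5 a s : ℂ)) (fun s => (th5 b s : ℂ)) =
    if a = b then 1 else 0 := by
  rw [classInner_def, card_P5]
  simp only [map_intCast]
  have h := th5_orth a b
  have h2 : (∑ s : P5, (th5 a s : ℂ) * (th5 b s : ℂ)) = ((if a = b then 120 else 0 : ℤ) : ℂ) := by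
    rw [← h]
    push_cast
    rfl
  rw [h2]
  split_ifs <;> norm_num

theorem irr_th5 (a : Fin 7) : IsIrrCharacter P5 (fun s => (th5 a s : ℂ)) := by
  rcases isIrr_of_generalized (gen_th5 a) (by rw [inner_th5, if_pos rfl]) with h | h
  · exact h
  · exfalso
    obtain ⟨n, hn, h1⟩ := isIrr_apply_one h
    have h2 : -(th5 a 1 : ℂ) = (n : ℂ) := h1
    rw [th5_one] at h2
    have h3 : -(t7 a) = (n : ℤ) := by exact_mod_cast h2
    have := t7_pos a
    omega

/-- the irreducible characters of `S₅` -/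
noncomputable def irr5 (a : Fin 7) : IrrCharacter P5 := ⟨fun s => (th5 a s : ℂ), irr_th5 a⟩

theorem irr5_inj : Function.Injective irr5 := by
  intro a b h
  by_contra hne
  have h1 := inner_th5 a b
  have h2 : (fun s : P5 => (th5 a s : ℂ)) = fun s => (th5 b s : ℂ) := congrArg Subtype.val h
  rw [if_neg hne, ← h2, inner_th5, if_pos rfl] at h1
  exact one_ne_zero h1

theorem irr5_bij : Function.Bijective irr5 := by
  classical
  refine ⟨irr5_inj, fun ψ => ?_⟩
  have := finite_irr (G := P5)
  have := Fintype.ofFinite (IrrCharacter P5)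
  by_contra hcon
  push Not at hcon
  have h := S0145.sum_irr_mul_conj (G := P5) 1 1
  rw [if_pos (IsConj.refl _)] at h
  have h3 : Subgroup.centralizer ({(1 : P5)} : Set P5) = ⊤ := by
    rw [Subgroup.centralizer_eq_top_iff_subset]
    intro y hy
    rw [Set.mem_singleton_iff] at hy
    rw [hy]
    exact one_mem _
  rw [h3, Subgroup.card_top, card_P5] at h
  -- real parts
  have hn : ∀ χ : IrrCharacter P5, ∃ n : ℕ, 0 < n ∧ (χ : P5 → ℂ) 1 = n := fun χ => isIrr_apply_one χ.2
  choose n hn0 hn1 using hn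
  have h4 : ∑ χ : IrrCharacter P5, n χ ^ 2 = 120 := by
    have h5 : ((∑ χ : IrrCharacter P5, n χ ^ 2 : ℕ) : ℂ) = (120 : ℕ) := by
      rw [← h]
      push_cast
      refine Finset.sum_congr rfl fun χ _ => ?_
      rw [hn1, Complex.conj_natCast, sq]
    exact_mod_cast h5
  have h5 : ∑ χ ∈ insert ψ (Finset.univ.image irr5), n χ ^ 2 ≤ 120 := by
    rw [← h4]
    exact Finset.sum_le_sum_of_subset (Finset.subset_univ _)
  rw [Finset.sum_insert (by
    simp only [Finset.mem_image, Finset.mem_univ, true_and, not_exists]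
    exact hcon), Finset.sum_image (fun a _ b _ hab => irr5_inj hab)] at h5
  have h6 : ∀ a, ((n (irr5 a) : ℕ) : ℤ) = t7 a := by
    intro a
    have h7 : ((th5 a 1 : ℤ) : ℂ) = (n (irr5 a) : ℂ) := hn1 (irr5 a)
    rw [th5_one] at h7
    exact_mod_cast h7.symm
  have h7 : ((∑ a, n (irr5 a) ^ 2 : ℕ) : ℤ) = 120 := by
    rw [← t7_sq]
    push_cast
    refine Finset.sum_congr rfl fun a _ => ?_
    rw [h6]
  have h8 : 0 < n ψ ^ 2 := pow_pos (hn0 ψ) 2
  omega

end Cfsg.Agent.H671.J4
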