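import Cfsg.Agent.H671.J4.SFive
import Cfsg.Agent.H265.J4LP.Seven
import Cfsg.Agent.SmallSimple.TheoremC
import Cfsg.Agent.Blocks.Knorr

/-!
# The columns of 7 of a group like `J₄` (helper671, for S4819 / S4820)

`cols7` : `Cols7 D.y D.psi s` from `Seven D` and the order.
-/

set_option autoImplicit false
set_option linter.unusedSectionVars false

open scoped ComplexConjugate

namespace Cfsg.Agent.H671.J4

open Cfsg Subgroup Cfsg.Agent.Characters.Core Cfsg.Agent.H34.TI Cfsg.Agent.H265.J4LP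
open Cfsg.Agent.SmallSimple.ThetaSetup Cfsg.Agent.SmallSimple.ThetaOrtho
open Cfsg.Agent.SmallSimple.TheoremC

universe u

/-! ### general facts -/

section general

variable {G : Type u} [Group G] [Finite G] {p : ℕ} [Fact p.Prime] {P : Sylow p G} {K : Subgroup G}

/-- the multiplicities -/
theorem exists_mult (hK : IsComp p (P : Subgroup G) K) (hP : Nat.card (P : Subgroup G) = p) [Fintype (P : Subgroup G)] {χ : G → ℂ}
    (hχ : IsCharacter G χ) {θ : K → ℂ} (hθ : IsIrrCharacter K θ) :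
    ∃ m n : ℕ, part θ χ 1 = m ∧ ∑ x : (P : Subgroup G), part θ χ (x : G) = (p * n : ℕ) := by
  have h1 := isCharacter_part hK hχ hθ
  obtain ⟨m, hm⟩ := isCharacter_apply_one h1
  obtain ⟨n, hn⟩ := classInner_isNat h1 (isCharacter_one (G := (P : Subgroup G)))
  refine ⟨m, n, hm, ?_⟩
  have hp : (p : ℂ) ≠ 0 := by exact_mod_cast (Fact.out : p.Prime).ne_zero
  rw [classInner_def] at hn
  rw [Nat.cast_mul, ← hn, hP, ← mul_assoc, mul_inv_cancel₀ hp, one_mul]
  exact Finset.sum_congr rfl fun x _ => by rw [Pi.one_apply, map_one, mul_one]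

theorem split_sum [Fintype (P : Subgroup G)] [DecidableEq (P : Subgroup G)] {χ : G → ℂ} {θ : K → ℂ} {m n : ℕ}
    (hm : part θ χ 1 = m) (hn : ∑ x : (P : Subgroup G), part θ χ (x : G) = (p * n : ℕ)) :
    (m : ℂ) + ∑ x ∈ Finset.univ.erase (1 : (P : Subgroup G)), part θ χ (x : G) = (p * n : ℕ) := by
  have h1 := Finset.add_sum_erase Finset.univ (fun x : (P : Subgroup G) => part θ χ (x : G))
    (Finset.mem_univ (1 : (P : Subgroup G)))
  simp only [OneMemClass.coe_one] at h1
  rw [← hn, ← h1, hm]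

/-- the multiplicity modulo `p`, constant values -/
theorem dvd_const [Fintype (P : Subgroup G)] (hP : Nat.card (P : Subgroup G) = p) {χ : G → ℂ} {θ : K → ℂ} {m n : ℕ}
    (hm : part θ χ 1 = m) (hn : ∑ x : (P : Subgroup G), part θ χ (x : G) = (p * n : ℕ)) {c : ℤ}
    (hc : ∀ x : (P : Subgroup G), x ≠ 1 → part θ χ (x : G) = c) : (p : ℤ) ∣ m - c := by
  classical
  have hp : 1 < p := (Fact.out : p.Prime).one_lt
  have h1 := split_sum hm hn
  have hcard : (Finset.univ.erase (1 : (P : Subgroup G))).card = p - 1 := by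
    rw [Finset.card_erase_of_mem (Finset.mem_univ _), Finset.card_univ, ← Nat.card_eq_fintype_card, hP]
  rw [Finset.sum_congr rfl fun x hx => hc x (Finset.ne_of_mem_erase hx), Finset.sum_const, hcard, nsmul_eq_mul,
    Nat.cast_sub hp.le] at h1
  have h2 : (m : ℤ) + ((p : ℤ) - 1) * c = p * n := by
    have h3 : (((m : ℤ) + ((p : ℤ) - 1) * c : ℤ) : ℂ) = ((p * n : ℤ) : ℂ) := by
      push_cast
      push_cast at h1
      exact h1
    exact_mod_cast h3
  exact ⟨n - c, by linear_combination h2⟩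

/-- the multiplicity modulo `p`, sums of linear characters -/
theorem dvd_lin [Fintype (P : Subgroup G)] {χ : G → ℂ} {θ : K → ℂ} {m n : ℕ}
    (hm : part θ χ 1 = m) (hn : ∑ x : (P : Subgroup G), part θ χ (x : G) = (p * n : ℕ)) {d : ℤ} {e : ℕ}
    {S : Finset ((P : Subgroup G) →* ℂˣ)} (hS : S.card = e) (h1S : 1 ∉ S)
    (hv : ∀ x : (P : Subgroup G), x ≠ 1 → part θ χ (x : G) = d * ∑ l ∈ S, ((l x : ℂˣ) : ℂ)) :
    (p : ℤ) ∣ m - e * d := by
  classical
  have h1 := split_sum hm hn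
  rw [Finset.sum_congr rfl fun x hx => hv x (Finset.ne_of_mem_erase hx), ← Finset.mul_sum, Finset.sum_comm] at h1
  have h2 : ∀ l ∈ S, ∑ x ∈ Finset.univ.erase (1 : (P : Subgroup G)), ((l x : ℂˣ) : ℂ) = -1 := by
    intro l hl
    have hl1 : (Units.coeHom ℂ).comp l ≠ 1 := by
      intro h3
      apply h1S
      have h4 : l = 1 := by
        ext x
        exact DFunLike.congr_fun h3 x
      rwa [← h4]
    have h3 := sum_hom_units_eq_zero ((Units.coeHom ℂ).comp l) hl1
    rw [← Finset.add_sum_erase Finset.univ _ (Finset.mem_univ (1 : (P : Subgroup G)))] at h3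
    have h4 : ((Units.coeHom ℂ).comp l) 1 = 1 := map_one _
    rw [h4] at h3
    have h5 : ∑ x ∈ Finset.univ.erase (1 : (P : Subgroup G)), ((l x : ℂˣ) : ℂ) =
        ∑ x ∈ Finset.univ.erase (1 : (P : Subgroup G)), ((Units.coeHom ℂ).comp l) x := rfl
    rw [h5]
    linear_combination h3
  rw [Finset.sum_congr rfl h2, Finset.sum_const, hS, nsmul_eq_mul] at h1
  have h3 : (m : ℤ) - e * d = p * n := by
    have h4 : (((m : ℤ) - e * d : ℤ) : ℂ) = ((p * n : ℤ) : ℂ) := by
      push_cast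
      push_cast at h1
      rw [← h1]
      ring
    exact_mod_cast h4
  exact ⟨n, h3⟩

theorem deg_eq [Fintype (IrrCharacter K)] {χ : G → ℂ} (hχ : IsClassFunction G χ) :
    χ 1 = ∑ θ : IrrCharacter K, part (θ : K → ℂ) χ 1 * (θ : K → ℂ) 1 := by
  have h := sum_part (K := K) hχ (x := 1) (fun y _ => by rw [one_mul, mul_one]) 1
  rwa [OneMemClass.coe_one, mul_one] at h

end general

section seven

variable {G : Type u} [Group G] [Finite G] {D : Data7 G} {P : Sylow 7 G}

instance : Fact (Nat.Prime 7) := ⟨by norm_num⟩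

theorem exists_syl (h : Seven D) (hc : Nat.card G = 86775571046077562880) :
    ∃ P : Sylow 7 G, (P : Subgroup G) = zpowers D.y := by
  have h1 : Nat.card (zpowers D.y) = 7 := by rw [Nat.card_zpowers, h.ord_y]
  have hp : IsPGroup 7 (zpowers D.y) := IsPGroup.of_card (n := 1) (by rw [h1]; norm_num)
  have hi : ¬ 7 ∣ (zpowers D.y).index := by
    have h2 := (zpowers D.y).card_mul_index
    rw [h1, hc] at h2
    omega
  exact ⟨hp.toSylow hi, rfl⟩

theorem ord_psi (h : Seven D) (s : Equiv.Perm (Fin 5)) : ¬ 7 ∣ orderOf (D.psi s) := by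
  rw [orderOf_injective D.psi h.inj]
  intro h1
  have h2 : 7 ∣ Nat.card (Equiv.Perm (Fin 5)) := h1.trans (orderOf_dvd_natCard s)
  rw [card_P5] at h2
  omega

variable (h : Seven D) (hPy : (P : Subgroup G) = zpowers D.y)

include h hPy

theorem card_P : Nat.card (P : Subgroup G) = 7 := by
  rw [hPy, Nat.card_zpowers, h.ord_y]

theorem isComp : IsComp 7 (P : Subgroup G) D.psi.range := by
  intro g
  constructor
  · rintro ⟨s, rfl⟩
    refine ⟨?_, ord_psi h s⟩
    rw [hPy, mem_centralizer_iff]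
    rintro _ ⟨k, rfl⟩
    exact (Commute.zpow_left (h.comm s) k).eq
  · rintro ⟨h1, h2⟩
    have hy : D.y * g = g * D.y := (mem_centralizer_iff.1 h1) D.y (by rw [hPy]; exact mem_zpowers D.y)
    obtain ⟨i, s, rfl⟩ := h.form g hy.symm
    by_cases h3 : D.y ^ i = 1
    · exact ⟨s, by rw [h3, one_mul]⟩
    · exfalso
      apply h2
      have h4 : orderOf (D.y ^ i) = 7 := by
        have h5 : orderOf (D.y ^ i) ∣ 7 := by
          rw [← h.ord_y]
          exact orderOf_pow_dvd i
        rcases (Nat.dvd_prime (by norm_num)).1 h5 with h6 | h6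
        · exact absurd (orderOf_eq_one_iff.1 h6) h3
        · exact h6
      have hc : Commute (D.y ^ i) (D.psi s) := Commute.pow_left (h.comm s) i
      rw [hc.orderOf_mul_eq_mul_orderOf_of_coprime, h4]
      · exact dvd_mul_right _ _
      · rw [h4]
        exact (Nat.Prime.coprime_iff_not_dvd (by norm_num)).2 (ord_psi h s)

/-- the form of a normalizing element -/
theorem norm_form {n : G} (hn : n ∈ normalizer ((P : Subgroup G) : Set G)) :
    ∃ j : ℕ, j < 7 ∧ j ≠ 0 ∧ n * D.y * n⁻¹ = D.y ^ j := by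
  have h1 : n * D.y * n⁻¹ ∈ (P : Subgroup G) := by
    rw [mem_normalizer_iff] at hn
    exact (hn D.y).1 (by rw [hPy]; exact mem_zpowers D.y)
  rw [hPy, mem_zpowers_iff] at h1
  obtain ⟨k, hk⟩ := h1
  refine ⟨(k % 7).toNat, by omega, ?_, ?_⟩
  · intro h0
    have h2 : (7 : ℤ) ∣ k := by omega
    have h3 : D.y ^ k = 1 := by
      rw [← orderOf_dvd_iff_zpow_eq_one, h.ord_y]
      exact_mod_cast h2
    rw [h3] at hk
    have h4 : D.y = 1 := by
      have h5 : n * D.y * n⁻¹ = 1 := hk.symm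
      have h6 := congrArg (fun g => n⁻¹ * g * n) h5
      simpa [mul_assoc] using h6
    have h5 := h.ord_y
    rw [h4, orderOf_one] at h5
    norm_num at h5
  · rw [← hk, ← zpow_natCast, zpow_eq_zpow_iff_modEq, h.ord_y, Int.toNat_of_nonneg (by omega)]
    exact (Int.mod_modEq k 7).symm

/-- conjugation by the normalizer is inner on `K` -/
theorem twist {n : G} (hn : n ∈ normalizer ((P : Subgroup G) : Set G)) {s s' : Equiv.Perm (Fin 5)}
    (hs : n * D.psi s * n⁻¹ = D.psi s') : IsConj s s' ∧ ∃ j ∈ [1, 2, 4], n * D.y * n⁻¹ = D.y ^ j := by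
  obtain ⟨j, hj7, hj0, hj⟩ := norm_form h hPy hn
  have h1 : IsConj (D.y * D.psi s) (D.y ^ j * D.psi s') := by
    rw [isConj_iff]
    refine ⟨n, ?_⟩
    rw [← hj, ← hs]
    group
  have h2 : j ∈ [1, 2, 4] ∨ j ∈ [3, 5, 6] := by
    interval_cases j <;> simp_all
  rcases h2 with h2 | h2
  · exact ⟨(h.conj_iff s s').1 (h1.trans (h.pow s' j h2)), j, h2, hj⟩
  · exact absurd (h1.trans (h.pow' s' j h2)) (h.not_conj s s')

/-- the twist fixes every class function of `K` -/
theorem tw_eq {θ : D.psi.range → ℂ} (hθ : IsClassFunction D.psi.range θ) {n : G}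
    (hn : n ∈ normalizer ((P : Subgroup G) : Set G)) : tw θ n = θ := by
  have hK := isComp h hPy
  funext k
  rw [tw_apply hK θ hn]
  obtain ⟨k, s, rfl⟩ := k
  have h1 : n * D.psi s * n⁻¹ ∈ D.psi.range := conj_mem hK hn ⟨s, rfl⟩
  obtain ⟨s', hs'⟩ := h1
  obtain ⟨c, hc⟩ := isConj_iff.1 (twist h hPy hn hs'.symm).1
  have h2 : (⟨n * D.psi s * n⁻¹, conj_mem hK hn ⟨s, rfl⟩⟩ : D.psi.range) =
      ⟨D.psi c, c, rfl⟩ * ⟨D.psi s, s, rfl⟩ * (⟨D.psi c, c, rfl⟩ : D.psi.range)⁻¹ := by
    apply Subtype.ext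
    show n * D.psi s * n⁻¹ = D.psi c * D.psi s * (D.psi c)⁻¹
    rw [← hs', ← hc, map_mul, map_mul, map_inv]
  rw [h2, hθ]

theorem gen_P (x : (P : Subgroup G)) : ∃ k : ℤ, (x : G) = D.y ^ k := by
  have h2 : (x : G) ∈ zpowers D.y := hPy ▸ x.2
  obtain ⟨k, hk⟩ := mem_zpowers_iff.1 h2
  exact ⟨k, hk.symm⟩

theorem conj_pow {n : G} {j : ℕ} (hj : n * D.y * n⁻¹ = D.y ^ j) (x : (P : Subgroup G)) : n * x * n⁻¹ = (x : G) ^ j := by
  obtain ⟨k, hk⟩ := gen_P h hPy x
  rw [hk, ← conj_zpow, hj, ← zpow_natCast, ← zpow_natCast, ← zpow_mul, ← zpow_mul, mul_comm]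

/-- squaring is induced by the normalizer -/
theorem exists_sq : ∃ r : MulAut (P : Subgroup G), (∀ x : (P : Subgroup G), r x = x ^ 2) ∧ orderOf r = 3 ∧
    ∀ θ : D.psi.range → ℂ, IsClassFunction D.psi.range θ → stabAct (isComp h hPy) θ = zpowers r := by
  have h1 := h.pow 1 2 (by simp)
  rw [map_one, mul_one, mul_one] at h1
  obtain ⟨g, hg⟩ := isConj_iff.1 h1.symm
  have hy : D.y ∈ (P : Subgroup G) := by rw [hPy]; exact mem_zpowers D.y
  have hy2 : D.y ^ 2 ≠ 1 := by
    intro h2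
    have h3 := orderOf_dvd_of_pow_eq_one h2
    rw [h.ord_y] at h3
    omega
  have hn : g ∈ normalizer ((P : Subgroup G) : Set G) :=
    mem_normalizer_of_conj (card_P h hPy) hy (pow_mem hy 2) hy2 hg
  have hr : ∀ x : (P : Subgroup G), cP hn x = x ^ 2 := fun x => Subtype.ext (conj_pow h hPy hg x)
  have hr3 : cP hn ^ 3 = 1 := by
    ext x
    have h2 : (cP hn ^ 3) x = x ^ 8 := by
      show cP hn (cP hn (cP hn x)) = _
      rw [hr, hr, hr, ← pow_mul, ← pow_mul]
    have h3 : x ^ 7 = 1 := by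
      have h4 := pow_card_eq_one' (x := x)
      rwa [card_P h hPy] at h4
    rw [h2, pow_succ, h3, one_mul]
    rfl
  have hr1 : cP hn ≠ 1 := by
    intro h2
    have h3 := hr ⟨D.y, hy⟩
    rw [h2] at h3
    have h4 : D.y = D.y ^ 2 := congrArg Subtype.val h3
    rw [pow_two] at h4
    have h5 : D.y = 1 := (mul_eq_left (a := D.y)).1 h4.symm
    apply hy2
    rw [h5, one_pow]
  have ho : orderOf (cP hn) = 3 := by
    have : Fact (Nat.Prime 3) := ⟨by norm_num⟩
    exact orderOf_eq_prime hr3 hr1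
  refine ⟨cP hn, hr, ho, fun θ hθ => le_antisymm (fun s hs => ?_) ?_⟩
  · obtain ⟨n, hnn, hns, -⟩ := hs
    obtain ⟨-, j, hj, hj'⟩ := twist h hPy (s := 1) (s' := 1) hnn (by rw [map_one, mul_one, mul_inv_cancel])
    have hsj : ∀ x : (P : Subgroup G), s x = x ^ j := fun x => Subtype.ext (by rw [hns, conj_pow h hPy hj' x]; rfl)
    simp only [List.mem_cons, List.not_mem_nil, or_false] at hj
    rcases hj with rfl | rfl | rfl
    · have h2 : s = 1 := by
        ext x
        rw [hsj, pow_one]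
        rfl
      rw [h2]
      exact one_mem _
    · have h2 : s = cP hn := by
        ext x
        rw [hsj, hr]
      rw [h2]
      exact mem_zpowers _
    · have h2 : s = cP hn ^ 2 := by
        ext x
        have h3 : (cP hn ^ 2) x = x ^ 4 := by
          show cP hn (cP hn x) = _
          rw [hr, hr, ← pow_mul]
        rw [hsj, h3]
      rw [h2]
      exact pow_mem (mem_zpowers _) 2
  · rw [zpowers_le]
    exact ⟨g, hn, fun x => coe_cP hn x, tw_eq h hPy hθ hn⟩

omit hPy in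
/-- the characters of `K` -/
noncomputable def th (a : Fin 7) (k : D.psi.range) : ℂ := (th5 a ((MonoidHom.ofInjective h.inj).symm k) : ℂ)

omit hPy in
theorem irr_th (a : Fin 7) : IsIrrCharacter D.psi.range (th h a) :=
  isIrr_comp (MonoidHom.ofInjective h.inj).symm.toMonoidHom (MonoidHom.ofInjective h.inj).symm.surjective (irr_th5 a)

omit hPy in
theorem th_bij : Function.Bijective fun a => (⟨th h a, irr_th h a⟩ : IrrCharacter D.psi.range) := by
  let e := MonoidHom.ofInjective h.inj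
  constructor
  · intro a b hab
    apply irr5_inj
    apply Subtype.ext
    funext s
    have h1 : th h a (e s) = th h b (e s) := congrFun (congrArg Subtype.val hab) (e s)
    unfold th at h1
    rw [show (MonoidHom.ofInjective h.inj).symm (e s) = s from e.symm_apply_apply s] at h1
    exact h1
  · intro ψ
    obtain ⟨a, ha⟩ := irr5_bij.2 ⟨fun s => (ψ : D.psi.range → ℂ) (e s), isIrr_comp e.toMonoidHom e.surjective ψ.2⟩
    refine ⟨a, Subtype.ext ?_⟩
    funext k
    have h1 := congrFun (congrArg Subtype.val ha) (e.symm k)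
    have h2 : (th5 a (e.symm k) : ℂ) = (ψ : D.psi.range → ℂ) (e (e.symm k)) := h1
    rw [e.apply_symm_apply] at h2
    exact h2

omit hPy in
theorem th_one (a : Fin 7) : th h a 1 = t7 a := by
  unfold th
  rw [map_one, th5_one]

omit hPy in
theorem part_th (a : Fin 7) (χ : G → ℂ) (x : G) :
    part (th h a) χ x = ∑ p : Equiv.Perm (Fin 5), (th5 a p : ℂ) / 120 * χ (x * D.psi p) := by
  have := Fintype.ofFinite D.psi.range
  let e := MonoidHom.ofInjective h.inj
  have hc : Nat.card D.psi.range = 120 := by rw [← Nat.card_congr e.toEquiv, card_P5]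
  rw [part_eq, hc, Finset.mul_sum, ← Equiv.sum_comp e.toEquiv]
  refine Finset.sum_congr rfl fun p _ => ?_
  show ((120 : ℕ) : ℂ)⁻¹ * (χ (x * D.psi p) * conj ((th5 a (e.symm (e p)) : ℤ) : ℂ)) = _
  rw [e.symm_apply_apply, map_intCast]
  push_cast
  ring

theorem sum_orbit {r : MulAut (P : Subgroup G)} (hr : ∀ x : (P : Subgroup G), r x = x ^ 2) {T : Finset ((P : Subgroup G) →* ℂˣ)} (h3 : T.card = 3)
    (h1 : 1 ∉ T) (hT : ∀ l ∈ T, SmallSimple.PrimeAct.tw r l ∈ T) {y : (P : Subgroup G)} (hy : (y : G) = D.y) :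
    ∑ l ∈ T, ((l y : ℂˣ) : ℂ) + ∑ l ∈ T, ((l y⁻¹ : ℂˣ) : ℂ) = -1 := by
  classical
  obtain ⟨l, hl⟩ : T.Nonempty := by
    rw [← Finset.card_pos]
    omega
  set l2 := SmallSimple.PrimeAct.tw r l with hl2
  set l4 := SmallSimple.PrimeAct.tw r l2 with hl4
  have hl2T : l2 ∈ T := hT l hl
  have hl4T : l4 ∈ T := hT l2 hl2T
  have hy7 : y ^ 7 = 1 := by
    have h4 := pow_card_eq_one' (x := y)
    rwa [card_P h hPy] at h4
  have e2 : l2 y = l y ^ 2 := by rw [hl2, SmallSimple.PrimeAct.tw_apply, hr, map_pow]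
  have e4 : l4 y = l y ^ 4 := by
    rw [hl4, SmallSimple.PrimeAct.tw_apply, hr, map_pow, e2, ← pow_mul]
  set z : ℂˣ := l y with hz
  have hz7 : z ^ 7 = 1 := by rw [hz, ← map_pow, hy7, map_one]
  have hz1 : z ≠ 1 := by
    intro h4
    apply h1
    have h5 : l = 1 := by
      ext x
      obtain ⟨k, hk⟩ := gen_P h hPy x
      have h6 : x = y ^ k := Subtype.ext (by rw [hk, ← hy]; rfl)
      rw [h6, map_zpow, ← hz, h4, one_zpow]
      rfl
    rwa [← h5]
  have ho : orderOf z = 7 := orderOf_eq_prime hz7 hz1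
  have hne : ∀ i j : ℕ, i < 7 → j < 7 → z ^ i = z ^ j → i = j := by
    intro i j hi hj hij
    have h4 := pow_injOn_Iio_orderOf (x := z)
    rw [ho] at h4
    exact h4 hi hj hij
  have n12 : l ≠ l2 := by
    intro h4
    have h5 := hne 1 2 (by norm_num) (by norm_num) (by rw [pow_one, ← e2, ← h4])
    omega
  have n14 : l ≠ l4 := by
    intro h4
    have h5 := hne 1 4 (by norm_num) (by norm_num) (by rw [pow_one, ← e4, ← h4])
    omega
  have n24 : l2 ≠ l4 := by
    intro h4
    have h5 := hne 2 4 (by norm_num) (by norm_num) (by rw [← e2, ← e4, h4])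
    omega
  have hTe : T = {l, l2, l4} := by
    symm
    apply Finset.eq_of_subset_of_card_le
    · intro m hm
      simp only [Finset.mem_insert, Finset.mem_singleton] at hm
      rcases hm with rfl | rfl | rfl
      · exact hl
      · exact hl2T
      · exact hl4T
    · rw [h3, Finset.card_eq_three.2 ⟨l, l2, l4, n12, n14, n24, rfl⟩]
  have hs : ∀ f : ((P : Subgroup G) →* ℂˣ) → ℂ, ∑ m ∈ T, f m = f l + f l2 + f l4 := by
    intro f
    rw [hTe, Finset.sum_insert (by simp [n12, n14]), Finset.sum_insert (by simp [n24]), Finset.sum_singleton]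
    ring
  rw [hs, hs, map_inv, map_inv, map_inv, e2, e4]
  have i1 : z⁻¹ = z ^ 6 := inv_eq_of_mul_eq_one_right (by rw [← pow_succ', hz7])
  have i2 : (z ^ 2)⁻¹ = z ^ 5 := inv_eq_of_mul_eq_one_right (by rw [← pow_add]; exact hz7)
  have i4 : (z ^ 4)⁻¹ = z ^ 3 := inv_eq_of_mul_eq_one_right (by rw [← pow_add]; exact hz7)
  rw [i2, i4]
  rw [show (l y)⁻¹ = z ^ 6 from i1]
  show (z : ℂ) + ((z ^ 2 : ℂˣ) : ℂ) + ((z ^ 4 : ℂˣ) : ℂ) +
    (((z ^ 6 : ℂˣ) : ℂ) + ((z ^ 5 : ℂˣ) : ℂ) + ((z ^ 3 : ℂˣ) : ℂ)) = -1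
  have hc7 : (z : ℂ) ^ 7 = 1 := by rw [← Units.val_pow_eq_pow_val, hz7, Units.val_one]
  have hc1 : (z : ℂ) - 1 ≠ 0 := by
    rw [sub_ne_zero]
    intro h4
    exact hz1 (Units.ext h4)
  push_cast
  have h4 : ((z : ℂ) - 1) * (1 + z + z ^ 2 + z ^ 3 + z ^ 4 + z ^ 5 + z ^ 6) = 0 := by
    linear_combination hc7
  have h5 := (mul_eq_zero.1 h4).resolve_left hc1
  linear_combination h5

/-- **The columns of 7.** -/
theorem cols7_of [Fintype (IrrCharacter G)] : ∃ s : Fin 7 → IrrCharacter G → ℤ, Cols7 D.y D.psi s := by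
  classical
  have hK := isComp h hPy
  have hP := card_P h hPy
  have := Fintype.ofFinite (P : Subgroup G)
  have := finite_irr (G := D.psi.range)
  have := Fintype.ofFinite (IrrCharacter D.psi.range)
  obtain ⟨r, hr, hro, hst⟩ := exists_sq h hPy
  have hcl : ∀ a, IsClassFunction D.psi.range (th h a) := fun a => isIrr_isClassFunction (irr_th h a)
  have hs3 : ∀ a, Nat.card (stabAct hK (th h a)) = 3 := fun a => by
    rw [hst _ (hcl a), Nat.card_zpowers, hro]
  have hC := fun a => theoremC hK hP (irr_th h a) (hs3 a) (show 3 * 2 = 7 - 1 from rfl)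
  choose NE X ε d S hOver hdis hNE hX hε hd hNEp hXp hXd hXl hsum using hC
  have hym : D.y ∈ (P : Subgroup G) := by rw [hPy]; exact mem_zpowers D.y
  set y : (P : Subgroup G) := ⟨D.y, hym⟩ with hydef
  have hy1 : y ≠ 1 := by
    intro h1
    have h2 : D.y = 1 := congrArg Subtype.val h1
    have h3 := h.ord_y
    rw [h2, orderOf_one] at h3
    norm_num at h3
  have hyi : y⁻¹ ≠ 1 := inv_ne_one.2 hy1
  -- the sets over the different characters are disjoint
  have hdisj : ∀ a b, a ≠ b → Disjoint (Over P (th h a)) (Over P (th h b)) := by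
    intro a b hab
    refine disjoint_Over hK hP (irr_th h a) (irr_th h b) fun n hn => ?_
    rw [tw_eq h hPy (hcl a) hn]
    intro h1
    exact hab ((th_bij h).1 (Subtype.ext h1))
  let s : Fin 7 → IrrCharacter G → ℤ := fun a χ => if χ ∈ NE a then 2 * ε a χ else if χ ∈ X a then - d a else 0
  have hs0 : ∀ a χ, χ ∉ Over P (th h a) → s a χ = 0 := by
    intro a χ hχ
    rw [hOver] at hχ
    push Not at hχ
    show (if χ ∈ NE a then _ else if χ ∈ X a then _ else _) = _
    rw [if_neg hχ.1, if_neg hχ.2]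
  have hsNE : ∀ a χ, χ ∈ NE a → s a χ = 2 * ε a χ := fun a χ hχ => if_pos hχ
  have hsX : ∀ a χ, χ ∈ X a → s a χ = - d a := by
    intro a χ hχ
    have h1 : χ ∉ NE a := fun h2 => Finset.disjoint_left.1 (hdis a) h2 hχ
    show (if χ ∈ NE a then _ else if χ ∈ X a then _ else _) = _
    rw [if_neg h1, if_pos hχ]
  have hcase : ∀ a χ, s a χ ≠ 0 → χ ∈ Over P (th h a) := by
    intro a χ h1
    by_contra h2
    exact h1 (hs0 a χ h2)
  -- degrees
  have hdeg : ∀ χ : IrrCharacter G, ∀ a, ∃ m n : ℕ, part (th h a) (χ : G → ℂ) 1 = m ∧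
      ∑ x : (P : Subgroup G), part (th h a) (χ : G → ℂ) (x : G) = (7 * n : ℕ) := fun χ a =>
    exists_mult hK hP (isIrr_isCharacter χ.2) (irr_th h a)
  choose m n hm hn using hdeg
  have hdg : ∀ χ : IrrCharacter G, dg χ = ∑ a, (m χ a : ℤ) * t7 a := by
    intro χ
    have h1 := deg_eq (K := D.psi.range) (isIrr_isClassFunction χ.2)
    rw [Cfsg.Agent.Blocks.Knorr.charDegree_eq χ.2, ← Equiv.sum_comp (Equiv.ofBijective _ (th_bij h))] at h1
    have h2 : ((dg χ : ℤ) : ℂ) = ((∑ a, (m χ a : ℤ) * t7 a : ℤ) : ℂ) := by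
      unfold dg
      push_cast
      rw [h1]
      refine Finset.sum_congr rfl fun a _ => ?_
      show part (th h a) (χ : G → ℂ) 1 * th h a 1 = _
      rw [hm, th_one]
    exact_mod_cast h2
  have hm0 : ∀ χ a, χ ∉ Over P (th h a) → (7 : ℤ) ∣ m χ a := by
    intro χ a hχ
    have h1 := dvd_const (p := 7) hP (hm χ a) (hn χ a) (c := 0) fun x hx => by
      rw [part_eq_zero hχ hx, Int.cast_zero]
    rwa [sub_zero] at h1
  have hmNE : ∀ χ a, χ ∈ NE a → (7 : ℤ) ∣ m χ a - ε a χ := by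
    intro χ a hχ
    exact dvd_const (p := 7) hP (hm χ a) (hn χ a) fun x hx => hNEp a χ hχ x hx
  have hmX : ∀ χ a, χ ∈ X a → (7 : ℤ) ∣ m χ a - 3 * d a := by
    intro χ a hχ
    obtain ⟨hc3, h1S, -, hv⟩ := hXp a χ hχ
    exact dvd_lin (p := 7) (hm χ a) (hn χ a) hc3 h1S hv
  refine ⟨s, ⟨fun a χ => ?_, fun χ => ?_, fun a b => ?_, fun a => ?_⟩⟩
  · -- the support formula
    have h1 : ∑ p : Equiv.Perm (Fin 5), (th5 a p : ℂ) / 120 *
        ((χ : G → ℂ) (D.y * D.psi p) + (χ : G → ℂ) (D.y⁻¹ * D.psi p)) =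
        part (th h a) (χ : G → ℂ) (y : G) + part (th h a) (χ : G → ℂ) ((y⁻¹ : (P : Subgroup G)) : G) := by
      rw [part_th, part_th, ← Finset.sum_add_distrib]
      exact Finset.sum_congr rfl fun p _ => by rw [mul_add]; rfl
    rw [h1]
    by_cases h2 : χ ∈ Over P (th h a)
    · rcases (hOver a χ).1 h2 with h3 | h3
      · rw [hsNE a χ h3, hNEp a χ h3 y hy1, hNEp a χ h3 _ hyi]
        push_cast
        ring
      · obtain ⟨hc3, h1S, hcl3, hv⟩ := hXp a χ h3
        rw [hsX a χ h3, hv y hy1, hv _ hyi, ← mul_add, sum_orbit h hPy hr hc3 h1S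
          (fun l hl => hcl3 r (by rw [hst _ (hcl a)]; exact mem_zpowers r) l hl) rfl]
        push_cast
        ring
    · rw [hs0 a χ h2, part_eq_zero h2 hy1, part_eq_zero h2 hyi]
      norm_num
  · -- the types
    by_cases h1 : ∃ a, χ ∈ Over P (th h a)
    · right
      obtain ⟨a, ha⟩ := h1
      have hoth : ∀ a', a' ≠ a → χ ∉ Over P (th h a') := fun a' ha' h2 =>
        Set.disjoint_left.1 (hdisj a' a ha') h2 ha
      have hrest : (7 : ℤ) ∣ dg χ - m χ a * t7 a := by
        rw [hdg, ← Finset.add_sum_erase Finset.univ _ (Finset.mem_univ a), add_sub_cancel_left]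
        exact Finset.dvd_sum fun a' ha' => (hm0 χ a' (hoth a' (Finset.ne_of_mem_erase ha'))).mul_right _
      refine ⟨a, ?_⟩
      rcases (hOver a χ).1 ha with h3 | h3
      · refine ⟨ε a χ, hε a χ h3, fun a' ha' => hs0 a' χ (hoth a' ha'), Or.inl ⟨hsNE a χ h3, ?_⟩⟩
        have h4 := hmNE χ a h3
        have h5 : dg χ - ε a χ * t7 a = (dg χ - m χ a * t7 a) + (m χ a - ε a χ) * t7 a := by ring
        rw [h5]
        exact dvd_add hrest (h4.mul_right _)
      · refine ⟨d a, hd a, fun a' ha' => hs0 a' χ (hoth a' ha'), Or.inr ⟨hsX a χ h3, ?_⟩⟩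
        have h4 := hmX χ a h3
        have h5 : dg χ - 3 * d a * t7 a = (dg χ - m χ a * t7 a) + (m χ a - 3 * d a) * t7 a := by ring
        rw [h5]
        exact dvd_add hrest (h4.mul_right _)
    · left
      push Not at h1
      refine ⟨?_, fun a => hs0 a χ (h1 a)⟩
      rw [hdg]
      exact Finset.dvd_sum fun a _ => (hm0 χ a (h1 a)).mul_right _
  · -- the products
    split_ifs with hab
    · subst hab
      have h1 : ∀ χ, s a χ * s a χ = (if χ ∈ NE a then 4 else 0) + (if χ ∈ X a then 1 else 0) := by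
        intro χ
        by_cases h2 : χ ∈ NE a
        · have h3 : χ ∉ X a := fun h4 => Finset.disjoint_left.1 (hdis a) h2 h4
          rw [if_pos h2, if_neg h3, hsNE a χ h2]
          rcases hε a χ h2 with h4 | h4 <;> rw [h4] <;> norm_num
        · by_cases h3 : χ ∈ X a
          · rw [if_neg h2, if_pos h3, hsX a χ h3]
            rcases hd a with h4 | h4 <;> rw [h4] <;> norm_num
          · rw [if_neg h2, if_neg h3, hs0 a χ (by rw [hOver]; tauto)]
            norm_num
      rw [Finset.sum_congr rfl fun χ _ => h1 χ, Finset.sum_add_distrib, Finset.sum_ite_mem, Finset.sum_ite_mem,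
        Finset.univ_inter, Finset.univ_inter, Finset.sum_const, Finset.sum_const, hNE, hX]
      norm_num
    · refine Finset.sum_eq_zero fun χ _ => ?_
      by_contra h1
      exact Set.disjoint_left.1 (hdisj a b hab) (hcase a χ (left_ne_zero_of_mul h1))
        (hcase b χ (right_ne_zero_of_mul h1))
  · -- the count
    rw [← hX a]
    congr 1
    ext χ
    rw [Finset.mem_filter]
    constructor
    · rintro ⟨-, h1⟩
      have h2 : s a χ ≠ 0 := by rcases h1 with h1 | h1 <;> rw [h1] <;> norm_num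
      rcases (hOver a χ).1 (hcase a χ h2) with h3 | h3
      · exfalso
        rw [hsNE a χ h3] at h1
        omega
      · exact h3
    · intro h3
      refine ⟨Finset.mem_univ _, ?_⟩
      rw [hsX a χ h3]
      rcases hd a with h4 | h4 <;> rw [h4] <;> norm_num

end seven

/-- **The columns of 7 of a group like `J₄`.** -/
theorem cols7 {G : Type u} [Group G] [Finite G] [Fintype (IrrCharacter G)] {D : Data7 G} (h : Seven D)
    (hc : Nat.card G = 86775571046077562880) : ∃ s : Fin 7 → IrrCharacter G → ℤ, Cols7 D.y D.psi s := by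
  obtain ⟨P, hPy⟩ := exists_syl h hc
  exact cols7_of h hPy

end Cfsg.Agent.H671.J4
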